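import Cfsg.Agent.H86.FusBasic
import Cfsg.Agent.H86.FusAut

set_option autoImplicit false

/-!
The configuration for comparing a normal subsystem `E` of `F` over `T` with a saturated
subsystem `D` of `F` over `T C_S(T)` whose maps between subgroups of `T` are the maps of `E`,
when the centralizer of `E` in `S` lies in `T`.
-/

namespace Cfsg.Agent.H87

open Cfsg Cfsg.FusionSystem Cfsg.Agent.H86

universe u

variable {Ω : Type u} [Group Ω] {S T : Subgroup Ω}

/-- `E` over `T`, `D` over `T C_S(T)`, inside `F` over `S`: all saturated, `T` strongly closed in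
`F`, `E ≤ D ≤ F`, the maps of `D` between subgroups of `T` are maps of `E`, every element of
`Aut_E(T)` extends to a map of `F` on `T C_S(T)` acting trivially on `C_S(T)` modulo `T`, and
every subgroup of `C_S(T)` centralized by `E` in `F` lies in `T`. -/
structure CCfg (p : ℕ) (F : FusionSystem S) (E : FusionSystem T)
    (D : FusionSystem (T ⊔ centralizerIn S T)) : Prop where
  satF : F.IsSaturated p
  satE : E.IsSaturated p
  satD : D.IsSaturated p
  sc : F.StronglyClosed T
  leED : ∀ (P : Subgroup Ω) (f : Ω → Ω), Mor E P f → Mor D P f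
  leDF : ∀ (P : Subgroup Ω) (f : Ω → Ω), Mor D P f → Mor F P f
  res : ∀ (P : Subgroup Ω) (f : Ω → Ω), P ≤ T → Mor D P f → Mor E P f
  ext : ∀ α ∈ E.autGroup T, ∃ b : Ω → Ω, Mor F (T ⊔ centralizerIn S T) b ∧
    (∀ x ∈ T, b x = autFun T α x) ∧ ∀ c ∈ centralizerIn S T, c⁻¹ * b c ∈ T
  cen : ∀ Y : Subgroup Ω, Y ≤ centralizerIn S T →
    (∀ (P : Subgroup Ω) (f : Ω → Ω), Mor E P f →
      ∃ f', Mor F (P ⊔ Y) f' ∧ (∀ x ∈ P, f' x = f x) ∧ ∀ y ∈ Y, f' y = y) → Y ≤ T

end Cfsg.Agent.H87
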