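import Cfsg.Agent.H86.FusAut

set_option autoImplicit false

namespace Cfsg.Agent.H87

open Cfsg Cfsg.FusionSystem Cfsg.Agent.H86

variable {Ω : Type*} [Group Ω] {S : Subgroup Ω}

/-- A map of the system carries the centre of its source onto the centre of its image. -/
theorem imgS_center {F : FusionSystem S} {U : Subgroup Ω} {f : Ω → Ω} (hf : Mor F U f) :
    imgS (U ⊓ Subgroup.centralizer (U : Set Ω)) f =
      imgS U f ⊓ Subgroup.centralizer ((imgS U f : Subgroup Ω) : Set Ω) := by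
  ext y
  rw [(hf.restrict inf_le_left).mem_imgS, Subgroup.mem_inf, hf.mem_imgS, Subgroup.mem_centralizer_iff]
  constructor
  · rintro ⟨x, ⟨hxU, hxC⟩, rfl⟩
    refine ⟨⟨x, hxU, rfl⟩, fun q hq => ?_⟩
    obtain ⟨u, hu, rfl⟩ := hf.mem_imgS.1 hq
    rw [← hf.map_mul hu hxU, ← hf.map_mul hxU hu, (Subgroup.mem_centralizer_iff.1 hxC) u hu]
  · rintro ⟨⟨x, hxU, rfl⟩, hC⟩
    refine ⟨x, ⟨hxU, ?_⟩, rfl⟩
    show x ∈ Subgroup.centralizer (U : Set Ω)
    rw [Subgroup.mem_centralizer_iff]
    intro u hu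
    apply hf.injOn (U.mul_mem hu hxU) (U.mul_mem hxU hu)
    rw [hf.map_mul hu hxU, hf.map_mul hxU hu]
    exact hC _ (hf.mem_imgS_of_mem hu)

/-- A fully centralized subgroup containing its centralizer in `S` is centric. -/
theorem isCentric_of_fullyCentralized [Finite S] {F : FusionSystem S} {U : Subgroup Ω}
    (hU : F.IsFullyCentralized U) (hC : centralizerIn S U ≤ U) : F.IsCentric U := by
  refine ⟨hU.1, fun Q hQ => ?_⟩
  have h1 := hU.2 Q hQ
  obtain ⟨f, hf, rfl⟩ := isConj_iff.1 hQ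
  have hQS : imgS U f ≤ S := hf.imgS_le
  have hZQ : imgS U f ⊓ Subgroup.centralizer ((imgS U f : Subgroup Ω) : Set Ω) ≤
      centralizerIn S (imgS U f) := inf_le_inf_right _ hQS
  have hZU : U ⊓ Subgroup.centralizer (U : Set Ω) = centralizerIn S U := by
    apply le_antisymm (inf_le_inf_right _ hU.1)
    intro x hx
    exact ⟨hC hx, hx.2⟩
  have hcard : Nat.card (imgS U f ⊓ Subgroup.centralizer ((imgS U f : Subgroup Ω) : Set Ω) :
      Subgroup Ω) = Nat.card (centralizerIn S U) := by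
    rw [← imgS_center hf, (hf.restrict inf_le_left).card_imgS, hZU]
  haveI : Finite (centralizerIn S (imgS U f)) :=
    finite_of_le (inf_le_left : centralizerIn S (imgS U f) ≤ S)
  have heq := Subgroup.eq_of_le_of_card_ge hZQ (by rw [hcard]; exact h1)
  rw [← heq]
  exact inf_le_left

end Cfsg.Agent.H87
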