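import Cfsg.Agent.H87.PPowerExist
import Cfsg.Agent.H88.Ess
import Cfsg.Agent.H86.FusExt
import Cfsg.Agent.H40.Resid

set_option autoImplicit false

/-!
A saturated subsystem of `p`-power index over a subgroup `T` normal in `S` is a normal subsystem.
-/

namespace Cfsg.Agent.H87

open Cfsg Cfsg.FusionSystem Cfsg.Agent.H86

universe u

section sconj

variable {Ω : Type u} [Group Ω] {S T : Subgroup Ω}

/-- The conjugates of the map `f` on `P` by the elements of `S` are maps of `E`. -/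
def SConjC (E : FusionSystem T) (S : Subgroup Ω) (P : Subgroup Ω) (f : Ω → Ω) : Prop :=
  ∀ s ∈ S, Mor E (P.map (MulAut.conj s).toMonoidHom) (fun y => s * f (s⁻¹ * y * s) * s⁻¹)

theorem SConjC.congr {E : FusionSystem T} {P : Subgroup Ω} {f g : Ω → Ω}
    (hfg : ∀ x ∈ P, f x = g x) (h : SConjC E S P f) : SConjC E S P g := by
  intro s hs
  refine (h s hs).congr (fun y hy => ?_)
  show s * f (s⁻¹ * y * s) * s⁻¹ = s * g (s⁻¹ * y * s) * s⁻¹
  rw [hfg _ (mem_map_conj.1 hy)]

theorem SConjC.conj (E : FusionSystem T) (hTn : ∀ s ∈ S, ∀ t ∈ T, s * t * s⁻¹ ∈ T)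
    {P : Subgroup Ω} {g : Ω} (hP : P ≤ T) (hg : g ∈ T) :
    SConjC E S P (fun x => g * x * g⁻¹) := by
  intro s hs
  have hle : P.map (MulAut.conj s).toMonoidHom ≤ T := by
    rintro _ ⟨x, hx, rfl⟩
    exact hTn s hs x (hP hx)
  refine (Mor.conj E hle (hTn s hs g hg)).congr (fun y hy => ?_)
  show s * g * s⁻¹ * y * (s * g * s⁻¹)⁻¹ = s * (g * (s⁻¹ * y * s) * g⁻¹) * s⁻¹
  group

theorem SConjC.comp {E : FusionSystem T} {P R : Subgroup Ω} {f g : Ω → Ω}
    (hfR : ∀ x ∈ P, f x ∈ R) (h : SConjC E S P f) (h' : SConjC E S R g) :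
    SConjC E S P (g ∘ f) := by
  intro s hs
  have A := h s hs
  have B := h' s hs
  have e : ∀ y : Ω, s⁻¹ * (s * f (s⁻¹ * y * s) * s⁻¹) * s = f (s⁻¹ * y * s) := by
    intro y
    group
  have hmaps : ∀ y ∈ P.map (MulAut.conj s).toMonoidHom,
      (fun y => s * f (s⁻¹ * y * s) * s⁻¹) y ∈ R.map (MulAut.conj s).toMonoidHom := by
    intro y hy
    rw [mem_map_conj]
    show s⁻¹ * (s * f (s⁻¹ * y * s) * s⁻¹) * s ∈ R
    rw [e]
    exact hfR _ (mem_map_conj.1 hy)
  refine (A.comp B hmaps).congr (fun y hy => ?_)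
  show s * g (s⁻¹ * (s * f (s⁻¹ * y * s) * s⁻¹) * s) * s⁻¹ = s * g (f (s⁻¹ * y * s)) * s⁻¹
  rw [e]

theorem SConjC.inv {E : FusionSystem T} {P : Subgroup Ω} {f : Ω → Ω} (hf : Mor E P f)
    (h : SConjC E S P f) : SConjC E S (imgS P f) (invOn P f) := by
  intro s hs
  have A := h s hs
  have e1 : ∀ x : Ω, s⁻¹ * (s * x * s⁻¹) * s = x := by
    intro x
    group
  have e2 : ∀ x : Ω, s * (s⁻¹ * x * s) * s⁻¹ = x := by
    intro x
    group
  have hval : ∀ x : Ω, (fun y => s * f (s⁻¹ * y * s) * s⁻¹) (s * x * s⁻¹) = s * f x * s⁻¹ := by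
    intro x
    show s * f (s⁻¹ * (s * x * s⁻¹) * s) * s⁻¹ = s * f x * s⁻¹
    rw [e1]
  have hmem : ∀ x ∈ P, s * x * s⁻¹ ∈ P.map (MulAut.conj s).toMonoidHom :=
    fun x hx => conj_mem_map_conj hx
  have himg : imgS (P.map (MulAut.conj s).toMonoidHom) (fun y => s * f (s⁻¹ * y * s) * s⁻¹) =
      (imgS P f).map (MulAut.conj s).toMonoidHom := by
    ext z
    rw [A.mem_imgS, mem_map_conj, hf.mem_imgS]
    constructor
    · rintro ⟨y, hy, rfl⟩
      refine ⟨s⁻¹ * y * s, mem_map_conj.1 hy, ?_⟩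
      show f (s⁻¹ * y * s) = s⁻¹ * (s * f (s⁻¹ * y * s) * s⁻¹) * s
      rw [e1]
    · rintro ⟨x, hx, hxz⟩
      refine ⟨s * x * s⁻¹, hmem x hx, ?_⟩
      show s * f (s⁻¹ * (s * x * s⁻¹) * s) * s⁻¹ = z
      rw [e1, hxz, e2]
  have B := A.inv
  rw [himg] at B
  refine B.congr (fun z hz => ?_)
  obtain ⟨x, hx, hxz⟩ := hf.mem_imgS.1 (mem_map_conj.1 hz)
  have hz' : z = s * f x * s⁻¹ := by rw [hxz, e2]
  show invOn (P.map (MulAut.conj s).toMonoidHom) (fun y => s * f (s⁻¹ * y * s) * s⁻¹) z =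
    s * invOn P f (s⁻¹ * z * s) * s⁻¹
  rw [← hxz, invOn_apply hf.injOn hx, hz', ← hval x, invOn_apply A.injOn (hmem x hx)]

/-- The subsystem of `E` of the maps all of whose conjugates by elements of `S` are in `E`. -/
def sInvSys (E : FusionSystem T) (S : Subgroup Ω) (hTn : ∀ s ∈ S, ∀ t ∈ T, s * t * s⁻¹ ∈ T) :
    FusionSystem T :=
  Cfsg.Agent.H88.subSys E (SConjC E S)
    (fun _ _ _ _ hfg h => h.congr hfg)
    (fun _ _ hP hg => SConjC.conj E hTn hP hg)
    (fun _ _ _ _ _ _ hfR h h' => h.comp hfR h')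
    (fun _ _ hf h => h.inv hf)

theorem mor_sInvSys_iff {E : FusionSystem T} {hTn : ∀ s ∈ S, ∀ t ∈ T, s * t * s⁻¹ ∈ T}
    {P : Subgroup Ω} {f : Ω → Ω} :
    Mor (sInvSys E S hTn) P f ↔ Mor E P f ∧ SConjC E S P f :=
  Cfsg.Agent.H88.mor_subSys_iff

/-- The automorphism of a conjugate of `P` transported from an automorphism of `P`. -/
theorem autFun_congr_conj {P : Subgroup Ω} (s : Ω) (β : MulAut P) {y : Ω}
    (hy : y ∈ P.map (MulAut.conj s).toMonoidHom) :
    autFun (P.map (MulAut.conj s).toMonoidHom)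
      (MulAut.congr (P.equivMapOfInjective (MulAut.conj s).toMonoidHom (MulAut.conj s).injective)
        β) y = s * autFun P β (s⁻¹ * y * s) * s⁻¹ := by
  have hy' : s⁻¹ * y * s ∈ P := mem_map_conj.1 hy
  rw [autFun_of_mem _ hy, autFun_of_mem β hy']
  have e1 : (P.equivMapOfInjective (MulAut.conj s).toMonoidHom (MulAut.conj s).injective).symm
      ⟨y, hy⟩ = ⟨s⁻¹ * y * s, hy'⟩ := by
    rw [MulEquiv.symm_apply_eq]
    apply Subtype.ext
    show y = s * (s⁻¹ * y * s) * s⁻¹
    group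
  show ((P.equivMapOfInjective (MulAut.conj s).toMonoidHom (MulAut.conj s).injective)
    (β ((P.equivMapOfInjective (MulAut.conj s).toMonoidHom (MulAut.conj s).injective).symm
      ⟨y, hy⟩)) : Ω) = _
  rw [e1]
  rfl

/-- A saturated subsystem over `T ⊴ S` containing the automorphisms of order prime to `p` of the
ambient system is invariant under conjugation by the elements of `S`. -/
theorem sConj_of_pPow [Finite S] {p : ℕ} [Fact p.Prime] (hS : IsPGroup p S) {F : FusionSystem S}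
    (hTS : T ≤ S) (hTn : ∀ s ∈ S, ∀ t ∈ T, s * t * s⁻¹ ∈ T) {E : FusionSystem T}
    (hE : E.IsSaturated p) (hEF : E.IsSubsystemOf F)
    (hres : ∀ P : Subgroup Ω, P ≤ T → ∀ β : MulAut P, β ∈ F.autGroup P → (orderOf β).Coprime p →
      β ∈ E.autGroup P)
    {P : Subgroup Ω} {f : Ω → Ω} (hf : Mor E P f) : SConjC E S P f := by
  haveI : Finite T := finite_of_le hTS
  have hTp : IsPGroup p T := hS.to_le hTS
  have key : ∀ P : Subgroup Ω, (P = T ∨ E.IsEssential p P) →
      E.autGroup P ≤ (sInvSys E S hTn).autGroup P := by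
    intro P hP
    have hfn : E.IsFullyNormalized P := by
      rcases hP with rfl | h
      · exact Cfsg.Agent.H88.fullyNormalized_self E
      · exact h.2.1
    have hPT : P ≤ T := hfn.1
    obtain ⟨-, -, R, hR⟩ := saturated_fullyNormalized hTp hE hfn
    haveI hfin : Finite P := finite_of_le (S := T) hPT
    haveI hfinA : Finite (E.autGroup P) := inferInstance
    intro α hα
    have htop : (⟨α, hα⟩ : E.autGroup P) ∈
        pResidual p (E.autGroup P) ⊔ (R : Subgroup (E.autGroup P)) := by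
      rw [Cfsg.Agent.H88.pResidual_sup_sylow p R]
      exact Subgroup.mem_top _
    have hle : pResidual p (E.autGroup P) ⊔ (R : Subgroup (E.autGroup P)) ≤
        ((sInvSys E S hTn).autGroup P).comap (E.autGroup P).subtype := by
      apply sup_le
      · unfold pResidual
        rw [Subgroup.closure_le]
        intro β hβ
        have hβc : Nat.Coprime (orderOf β) p := hβ
        show (β : MulAut P) ∈ (sInvSys E S hTn).autGroup P
        have hβE : Mor E P (autFun P (β : MulAut P)) := (mem_autGroup_iff hPT _).1 β.2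
        rw [mem_autGroup_iff hPT, mor_sInvSys_iff]
        refine ⟨hβE, fun s hs => ?_⟩
        have hP'T : P.map (MulAut.conj s).toMonoidHom ≤ T := by
          rintro _ ⟨x, hx, rfl⟩
          exact hTn s hs x (hPT hx)
        have hP'S := hP'T.trans hTS
        have h1 : Mor F (P.map (MulAut.conj s).toMonoidHom) (fun x => s⁻¹ * x * s⁻¹⁻¹) :=
          Mor.conj F hP'S (S.inv_mem hs)
        have h2 : Mor F P (autFun P (β : MulAut P)) := mor_of_subsystem hEF hβE
        have h3 : Mor F P (fun x => s * x * s⁻¹) := Mor.conj F (hPT.trans hTS) hs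
        have h12 := h1.comp h2 (fun y hy => by
          show s⁻¹ * y * s⁻¹⁻¹ ∈ P
          rw [inv_inv]
          exact mem_map_conj.1 hy)
        have h123 := h12.comp h3 (fun y hy => by
          show autFun P (β : MulAut P) (s⁻¹ * y * s⁻¹⁻¹) ∈ P
          exact autFun_mem _ (by rw [inv_inv]; exact mem_map_conj.1 hy))
        have h4 : Mor F (P.map (MulAut.conj s).toMonoidHom)
            (autFun (P.map (MulAut.conj s).toMonoidHom)
              (MulAut.congr (P.equivMapOfInjective (MulAut.conj s).toMonoidHom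
                (MulAut.conj s).injective) (β : MulAut P))) := by
          refine h123.congr (fun y hy => ?_)
          rw [autFun_congr_conj s _ hy]
          show s * autFun P (β : MulAut P) (s⁻¹ * y * s⁻¹⁻¹) * s⁻¹ = _
          rw [inv_inv]
        have h5 : (orderOf (MulAut.congr (P.equivMapOfInjective (MulAut.conj s).toMonoidHom
            (MulAut.conj s).injective) (β : MulAut P))).Coprime p := by
          rw [MulEquiv.orderOf_eq, Subgroup.orderOf_coe]
          exact hβc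
        have h6 := hres _ hP'T _ ((mem_autGroup_iff hP'S _).2 h4) h5
        have h7 := (mem_autGroup_iff hP'T _).1 h6
        exact h7.congr (fun y hy => autFun_congr_conj s _ hy)
      · rw [hR]
        intro β hβ
        exact autInducedBy_le_autGroup (sInvSys E S hTn) hPT (Subgroup.mem_subgroupOf.1 hβ)
    exact hle htop
  exact (mor_sInvSys_iff.1 (alperin hTp hE (sInvSys E S hTn) key P f hf)).2

end sconj

section normal

variable {Ω : Type u} [Group Ω] {S T : Subgroup Ω}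

theorem stronglyClosed_of_hyperfocal [Finite S] {p : ℕ} [Fact p.Prime] (hS : IsPGroup p S)
    {F : FusionSystem S} (hF : F.IsSaturated p) (hTS : T ≤ S)
    (hTn : ∀ s ∈ S, ∀ t ∈ T, s * t * s⁻¹ ∈ T) (hT : F.hyperfocalSubgroup p ≤ T) :
    F.StronglyClosed T := by
  rw [stronglyClosed_iff]
  refine ⟨hTS, fun R f hR hf x hx => ?_⟩
  obtain ⟨s, hs, hsx⟩ := mor_mod_hyperfocal hS hF hf
  have h1 := hT (hsx x hx)
  have h2 := hTn s hs x (hR hx)
  have h3 := T.mul_mem h2 h1
  rwa [mul_inv_cancel_left] at h3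

/-- A saturated subsystem of `p`-power index over `T ⊴ S`, with the Frattini property, is
invariant. -/
theorem invariant_of_pPow [Finite S] {p : ℕ} [Fact p.Prime] (hS : IsPGroup p S)
    {F : FusionSystem S} (hF : F.IsSaturated p) (hTS : T ≤ S)
    (hTn : ∀ s ∈ S, ∀ t ∈ T, s * t * s⁻¹ ∈ T) (hT : F.hyperfocalSubgroup p ≤ T)
    {E : FusionSystem T} (hE : E.IsSaturated p) (hP : PPow E F p) : E.IsInvariantIn F := by
  haveI : Finite T := finite_of_le hTS
  have hsc := stronglyClosed_of_hyperfocal hS hF hTS hTn hT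
  rw [isInvariantIn_iff hTS]
  refine ⟨hP.1, hsc, ?_, ?_⟩
  · intro P f a hPT hf ha haT
    obtain ⟨t, ht, ha₀⟩ := hP.2.2 T a ha le_rfl
    have ha₀P : Mor E P (fun x => t * a x * t⁻¹) := ha₀.restrict hPT
    have h1 : Mor E (imgS P (fun x => t * a x * t⁻¹)) (invOn P (fun x => t * a x * t⁻¹)) :=
      ha₀P.inv
    have hinv : ∀ y ∈ imgS P (fun x => t * a x * t⁻¹),
        invOn P (fun x => t * a x * t⁻¹) y ∈ P := by
      intro y hy
      obtain ⟨x, hx, rfl⟩ := ha₀P.mem_imgS.1 hy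
      rw [invOn_apply ha₀P.injOn hx]
      exact hx
    have h2 := h1.comp hf hinv
    have h3 := h2.comp ha₀ (fun y hy => hf.mem (hinv y hy))
    have h4 := sConj_of_pPow hS hTS hTn hE hP.1 hP.2.1 h3 t⁻¹ (S.inv_mem ht)
    have haP : Mor F P a := ha.restrict hPT
    have himg : (imgS P (fun x => t * a x * t⁻¹)).map (MulAut.conj t⁻¹).toMonoidHom =
        imgS P a := by
      ext y
      rw [mem_map_conj, ha₀P.mem_imgS, haP.mem_imgS]
      constructor
      · rintro ⟨x, hx, hxy⟩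
        refine ⟨x, hx, ?_⟩
        have e : a x = t⁻¹ * (t * a x * t⁻¹) * t := by group
        rw [e, hxy]
        group
      · rintro ⟨x, hx, rfl⟩
        exact ⟨x, hx, by group⟩
    rw [himg] at h4
    refine ⟨_, h4, fun x hx => ?_⟩
    show t⁻¹ * (t * a (f (invOn P (fun x => t * a x * t⁻¹) (t⁻¹⁻¹ * a x * t⁻¹))) * t⁻¹) * t⁻¹⁻¹ =
      a (f x)
    have e : t⁻¹⁻¹ * a x * t⁻¹ = (fun x => t * a x * t⁻¹) x := by
      show t⁻¹⁻¹ * a x * t⁻¹ = t * a x * t⁻¹
      rw [inv_inv]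
    rw [e, invOn_apply ha₀P.injOn hx]
    group
  · intro P f hPT hf
    obtain ⟨t, ht, hf₀⟩ := hP.2.2 P f hf hPT
    have ha : Mor F T (fun x => t⁻¹ * x * t⁻¹⁻¹) := Mor.conj F hTS (S.inv_mem ht)
    refine ⟨fun x => t⁻¹ * x * t⁻¹⁻¹, fun x => t * f x * t⁻¹, ha,
      imgS_eq_of_maps ha (fun x hx => hTn _ (S.inv_mem ht) x hx), hf₀, fun x hx => ?_⟩
    show f x = t⁻¹ * (t * f x * t⁻¹) * t⁻¹⁻¹
    group

/-- The automorphism `α` of `T` extends to a map of `F` on `T C_S(T)` moving the elements of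
`C_S(T)` by elements of `Z(T)`. -/
def GoodExt (F : FusionSystem S) (T : Subgroup Ω) (α : MulAut T) : Prop :=
  ∃ b : Ω → Ω, Mor F (T ⊔ centralizerIn S T) b ∧ (∀ x ∈ T, b x = autFun T α x) ∧
    ∀ c ∈ centralizerIn S T, c⁻¹ * b c ∈ T ⊓ Subgroup.centralizer (T : Set Ω)

theorem autFun_center (α : MulAut T) {z : Ω} (hz : z ∈ T ⊓ Subgroup.centralizer (T : Set Ω)) :
    autFun T α z ∈ T ⊓ Subgroup.centralizer (T : Set Ω) := by
  refine ⟨autFun_mem α hz.1, ?_⟩
  show autFun T α z ∈ Subgroup.centralizer (T : Set Ω)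
  rw [Subgroup.mem_centralizer_iff]
  intro y hy
  have hy' : autFun T α⁻¹ y ∈ T := autFun_mem _ hy
  have e : autFun T α (autFun T α⁻¹ y) = y := autFun_apply_inv α hy
  have hcomm : autFun T α⁻¹ y * z = z * autFun T α⁻¹ y :=
    (Subgroup.mem_centralizer_iff.1 hz.2) _ hy'
  calc y * autFun T α z = autFun T α (autFun T α⁻¹ y) * autFun T α z := by rw [e]
    _ = autFun T α (autFun T α⁻¹ y * z) := (autFun_map_mul α hy' hz.1).symm
    _ = autFun T α (z * autFun T α⁻¹ y) := by rw [hcomm]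
    _ = autFun T α z * autFun T α (autFun T α⁻¹ y) := autFun_map_mul α hz.1 hy'
    _ = autFun T α z * y := by rw [e]

/-- An extension to `T C_S(T)` of an automorphism of `T` stabilizes `C_S(T)` and `T C_S(T)`. -/
theorem ext_maps [Finite S] {F : FusionSystem S} (hTS : T ≤ S) {α : MulAut T} {b : Ω → Ω}
    (hb : Mor F (T ⊔ centralizerIn S T) b) (hbα : ∀ x ∈ T, b x = autFun T α x) :
    (∀ c ∈ centralizerIn S T, b c ∈ centralizerIn S T) ∧
      imgS (T ⊔ centralizerIn S T) b = T ⊔ centralizerIn S T := by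
  have hC : ∀ c ∈ centralizerIn S T, b c ∈ centralizerIn S T := by
    intro c hc
    rw [mem_centralizerIn_iff]
    refine ⟨hb.mem (Subgroup.mem_sup_right hc), fun y hy => ?_⟩
    have hy' : autFun T α⁻¹ y ∈ T := autFun_mem _ hy
    have e : b (autFun T α⁻¹ y) = y := by rw [hbα _ hy', autFun_apply_inv α hy]
    have hcomm := (mem_centralizerIn_iff.1 hc).2 _ hy'
    calc y * b c = b (autFun T α⁻¹ y) * b c := by rw [e]
      _ = b (autFun T α⁻¹ y * c) :=
          (hb.map_mul (Subgroup.mem_sup_left hy') (Subgroup.mem_sup_right hc)).symm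
      _ = b (c * autFun T α⁻¹ y) := by rw [hcomm]
      _ = b c * b (autFun T α⁻¹ y) :=
          hb.map_mul (Subgroup.mem_sup_right hc) (Subgroup.mem_sup_left hy')
      _ = b c * y := by rw [e]
  refine ⟨hC, ?_⟩
  haveI : Finite ↥(T ⊔ centralizerIn S T) := finite_of_le (S := S) (sup_le hTS inf_le_left)
  apply imgS_eq_of_maps hb
  have hle : imgS (T ⊔ centralizerIn S T) b ≤ T ⊔ centralizerIn S T := by
    rw [hb.imgS_sup]
    apply sup_le_sup
    · intro y hy
      obtain ⟨x, hx, rfl⟩ := (hb.restrict le_sup_left).mem_imgS.1 hy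
      rw [hbα x hx]
      exact autFun_mem _ hx
    · intro y hy
      obtain ⟨x, hx, rfl⟩ := (hb.restrict le_sup_right).mem_imgS.1 hy
      exact hC x hx
  intro x hx
  exact hle (hb.mem_imgS_of_mem hx)

theorem GoodExt.one (F : FusionSystem S) (hTS : T ≤ S) : GoodExt F T 1 := by
  refine ⟨fun x => x, Mor.id F (sup_le hTS inf_le_left), fun x hx => (autFun_one hx).symm,
    fun c _ => ?_⟩
  show c⁻¹ * c ∈ T ⊓ Subgroup.centralizer (T : Set Ω)
  rw [inv_mul_cancel]
  exact Subgroup.one_mem _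

theorem GoodExt.mul [Finite S] {F : FusionSystem S} (hTS : T ≤ S) {α₁ α₂ : MulAut T}
    (h₁ : GoodExt F T α₁) (h₂ : GoodExt F T α₂) : GoodExt F T (α₁ * α₂) := by
  obtain ⟨b₁, hb₁, hb₁α, hb₁c⟩ := h₁
  obtain ⟨b₂, hb₂, hb₂α, hb₂c⟩ := h₂
  obtain ⟨-, himg₂⟩ := ext_maps hTS hb₂ hb₂α
  have hmaps : ∀ x ∈ T ⊔ centralizerIn S T, b₂ x ∈ T ⊔ centralizerIn S T := fun x hx => by
    have := hb₂.mem_imgS_of_mem hx
    rwa [himg₂] at this
  refine ⟨b₁ ∘ b₂, hb₂.comp hb₁ hmaps, fun x hx => ?_, fun c hc => ?_⟩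
  · show b₁ (b₂ x) = autFun T (α₁ * α₂) x
    rw [hb₂α x hx, hb₁α _ (autFun_mem _ hx), autFun_mul _ _ hx]
  · show c⁻¹ * b₁ (b₂ c) ∈ T ⊓ Subgroup.centralizer (T : Set Ω)
    have hz₂ := hb₂c c hc
    have hz₁ := hb₁c c hc
    have hcR : c ∈ T ⊔ centralizerIn S T := Subgroup.mem_sup_right hc
    have hz₂R : c⁻¹ * b₂ c ∈ T ⊔ centralizerIn S T := Subgroup.mem_sup_left hz₂.1
    have e : b₂ c = c * (c⁻¹ * b₂ c) := by rw [mul_inv_cancel_left]
    rw [e, hb₁.map_mul hcR hz₂R, ← mul_assoc]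
    refine Subgroup.mul_mem _ hz₁ ?_
    rw [hb₁α _ hz₂.1]
    exact autFun_center α₁ hz₂

theorem GoodExt.inner {F : FusionSystem S} (hTS : T ≤ S) {α : MulAut T}
    (hα : α ∈ autInducedBy T T) : GoodExt F T α := by
  obtain ⟨t, ht, hα'⟩ := (mem_autInducedBy_iff T T α).1 hα
  refine ⟨fun x => t * x * t⁻¹, Mor.conj F (sup_le hTS inf_le_left) (hTS ht), fun x hx => ?_,
    fun c hc => ?_⟩
  · rw [autFun_of_mem α hx]
    exact (hα' ⟨x, hx⟩).symm
  · have h1 := (mem_centralizerIn_iff.1 hc).2 t ht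
    have e : c⁻¹ * (t * c * t⁻¹) = 1 := by
      rw [h1]
      group
    show c⁻¹ * (t * c * t⁻¹) ∈ T ⊓ Subgroup.centralizer (T : Set Ω)
    rw [e]
    exact Subgroup.one_mem _

/-- An automorphism of `T` of order prime to `p` in `Aut_F(T)` has a good extension. -/
theorem GoodExt.of_coprime [Finite S] {p : ℕ} [Fact p.Prime] (hS : IsPGroup p S)
    {F : FusionSystem S} (hF : F.IsSaturated p) (hTS : T ≤ S)
    (hTn : ∀ s ∈ S, ∀ t ∈ T, s * t * s⁻¹ ∈ T) (hT : F.hyperfocalSubgroup p ≤ T)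
    {m : MulAut T} (hm : m ∈ F.autGroup T) (hmp : (orderOf m).Coprime p) : GoodExt F T m := by
  haveI : Finite T := finite_of_le hTS
  have hRS : T ⊔ centralizerIn S T ≤ S := sup_le hTS inf_le_left
  haveI : Finite ↥(T ⊔ centralizerIn S T) := finite_of_le hRS
  have hfn : F.IsFullyNormalized T := by
    refine ⟨hTS, fun Q _ => ?_⟩
    have hN : normalizerIn S T = S := by
      apply le_antisymm inf_le_left
      intro s hs
      refine ⟨hs, ?_⟩
      show s ∈ Subgroup.normalizer (T : Set Ω)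
      rw [Subgroup.mem_normalizer_iff]
      intro h
      constructor
      · exact hTn s hs h
      · intro hh
        have := hTn s⁻¹ (S.inv_mem hs) _ hh
        have e : s⁻¹ * (s * h * s⁻¹) * s⁻¹⁻¹ = h := by group
        rwa [e] at this
    rw [hN]
    haveI : Finite (normalizerIn S Q) := finite_of_le (S := S) inf_le_left
    exact Subgroup.card_le_of_le inf_le_left
  have hrec := saturated_receptive_of_fullyCentralized hS hF (saturated_fullyNormalized hS hF hfn).1
  have hmm : Mor F T (autFun T m) := (mem_autGroup_iff hTS m).1 hm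
  have hle : T ⊔ centralizerIn S T ≤ extSub S T (autFun T m) :=
    sup_le (le_extSub hmm) (centralizerIn_le_extSub hmm)
  obtain ⟨b₀, hb₀, hb₀m⟩ := receptive_extend hrec hmm (imgS_autFun hmm) le_sup_left
    (fun g hg => (mem_extSub_iff hmm g).1 (hle hg))
  obtain ⟨-, himg₀⟩ := ext_maps hTS hb₀ hb₀m
  have hβ₀F : mkAut hb₀ himg₀ ∈ F.autGroup (T ⊔ centralizerIn S T) := mkAut_mem hb₀ himg₀
  have hβ₀T : ∀ x ∈ T, autFun (T ⊔ centralizerIn S T) (mkAut hb₀ himg₀) x = autFun T m x :=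
    fun x hx => by rw [autFun_mkAut hb₀ himg₀ (Subgroup.mem_sup_left hx), hb₀m x hx]
  have hpow : ∀ (j : ℕ), ∀ x ∈ T,
      autFun (T ⊔ centralizerIn S T) (mkAut hb₀ himg₀ ^ j) x = autFun T (m ^ j) x := by
    intro j
    induction j with
    | zero =>
      intro x hx
      rw [pow_zero, pow_zero, autFun_one (Subgroup.mem_sup_left hx), autFun_one hx]
    | succ j ih =>
      intro x hx
      rw [pow_succ', pow_succ', autFun_mul _ _ (Subgroup.mem_sup_left hx), ih x hx,
        hβ₀T _ (autFun_mem _ hx), autFun_mul _ _ hx]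
  by_cases hm1 : orderOf m = 1
  · rw [orderOf_eq_one_iff] at hm1
    rw [hm1]
    exact GoodExt.one F hTS
  · have hp : p.Prime := Fact.out
    have ho : orderOf (mkAut hb₀ himg₀) ≠ 0 := (orderOf_pos _).ne'
    obtain ⟨k, m', hm', hkm⟩ := Nat.exists_eq_pow_mul_and_not_dvd ho p hp.ne_one
    have hcop : Nat.Coprime (p ^ k) (orderOf m) := Nat.Coprime.pow_left k hmp.symm
    obtain ⟨u, -, hu⟩ := Nat.exists_mul_mod_eq_one_of_coprime hcop
      (by have := orderOf_pos m; omega)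
    have hβF : mkAut hb₀ himg₀ ^ (p ^ k * u) ∈ F.autGroup (T ⊔ centralizerIn S T) :=
      Subgroup.pow_mem _ hβ₀F _
    have hβord : (orderOf (mkAut hb₀ himg₀ ^ (p ^ k * u))).Coprime p := by
      have h1 : (mkAut hb₀ himg₀ ^ (p ^ k * u)) ^ m' = 1 := by
        rw [← pow_mul, mul_right_comm, ← hkm, pow_mul, pow_orderOf_eq_one, one_pow]
      have h2 : orderOf (mkAut hb₀ himg₀ ^ (p ^ k * u)) ∣ m' := orderOf_dvd_of_pow_eq_one h1
      exact Nat.Coprime.coprime_dvd_left h2 ((Nat.Prime.coprime_iff_not_dvd hp).2 hm').symm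
    have hβT : ∀ x ∈ T, autFun (T ⊔ centralizerIn S T) (mkAut hb₀ himg₀ ^ (p ^ k * u)) x =
        autFun T m x := by
      intro x hx
      rw [hpow _ x hx]
      have : m ^ (p ^ k * u) = m := by rw [← pow_mod_orderOf, hu, pow_one]
      rw [this]
    have hβm : Mor F (T ⊔ centralizerIn S T)
        (autFun (T ⊔ centralizerIn S T) (mkAut hb₀ himg₀ ^ (p ^ k * u))) :=
      (mem_autGroup_iff hRS _).1 hβF
    obtain ⟨hCβ, -⟩ := ext_maps hTS hβm hβT
    refine ⟨_, hβm, hβT, fun c hc => ⟨?_, ?_⟩⟩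
    · apply hT
      apply Subgroup.subset_closure
      refine ⟨T ⊔ centralizerIn S T, ⟨mkAut hb₀ himg₀ ^ (p ^ k * u), hβF⟩,
        ⟨c, Subgroup.mem_sup_right hc⟩, hRS, Subgroup.subset_closure ?_, ?_⟩
      · show (orderOf (⟨mkAut hb₀ himg₀ ^ (p ^ k * u), hβF⟩ :
          F.autGroup (T ⊔ centralizerIn S T))).Coprime p
        rw [← Subgroup.orderOf_coe]
        exact hβord
      · show c⁻¹ * autFun (T ⊔ centralizerIn S T) (mkAut hb₀ himg₀ ^ (p ^ k * u)) c = _
        rw [autFun_of_mem _ (Subgroup.mem_sup_right hc)]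
    · have h1 := hCβ c hc
      exact Subgroup.mul_mem _ (Subgroup.inv_mem _ hc.2) h1.2

/-- **Normality of the subsystem of `p`-power index** over a subgroup normal in `S`. -/
theorem normal_of_pPow [Finite S] {p : ℕ} [Fact p.Prime] (hS : IsPGroup p S)
    {F : FusionSystem S} (hF : F.IsSaturated p) (hTS : T ≤ S)
    (hTn : ∀ s ∈ S, ∀ t ∈ T, s * t * s⁻¹ ∈ T) (hT : F.hyperfocalSubgroup p ≤ T)
    {E : FusionSystem T} (hE : E.IsSaturated p) (hP : PPow E F p) : E.IsNormalIn F p := by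
  refine ⟨⟨hE, hF, invariant_of_pPow hS hF hTS hTn hT hE hP⟩, fun α hα => ?_⟩
  haveI : Finite T := finite_of_le hTS
  have hTp : IsPGroup p T := hS.to_le hTS
  have hEFaut : E.autGroup T ≤ F.autGroup T := by
    intro β hβ
    exact (mem_autGroup_iff hTS β).2 (mor_of_subsystem hP.1 ((mem_autGroup_iff le_rfl β).1 hβ))
  have hgood : GoodExt F T α := by
    have hfn := Cfsg.Agent.H88.fullyNormalized_self E
    obtain ⟨-, -, R, hR⟩ := saturated_fullyNormalized hTp hE hfn
    haveI : Finite (E.autGroup T) := inferInstance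
    obtain ⟨s, hs, m, hm, hsm⟩ :=
      Cfsg.Agent.H40.exists_mul_sylow_pResidual R (⟨α, hα⟩ : E.autGroup T)
    have hα' : α = (s : MulAut T) * (m : MulAut T) := congrArg Subtype.val hsm
    rw [hα']
    refine GoodExt.mul hTS (GoodExt.inner hTS ?_) ?_
    · have h1 : s ∈ (R : Subgroup (E.autGroup T)) := hs
      rw [hR] at h1
      exact Subgroup.mem_subgroupOf.1 h1
    · have hm2 : m ∈ Subgroup.closure {g : E.autGroup T | Nat.Coprime (orderOf g) p} := hm
      refine Subgroup.closure_induction''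
        (p := fun (g : E.autGroup T) _ => GoodExt F T (g : MulAut T)) ?_ ?_ ?_ ?_ hm2
      · intro x hx
        have hx' : Nat.Coprime (orderOf x) p := hx
        exact GoodExt.of_coprime hS hF hTS hTn hT (hEFaut x.2)
          (by rw [Subgroup.orderOf_coe]; exact hx')
      · intro x hx
        have hx' : Nat.Coprime (orderOf x) p := hx
        refine GoodExt.of_coprime hS hF hTS hTn hT (hEFaut (x⁻¹).2) ?_
        rw [Subgroup.orderOf_coe, orderOf_inv]
        exact hx'
      · exact GoodExt.one F hTS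
      · intro x y _ _ hx hy
        exact GoodExt.mul hTS hx hy
  obtain ⟨b, hb, hbα, hbc⟩ := hgood
  obtain ⟨-, himg⟩ := ext_maps hTS hb hbα
  refine ⟨mkAut hb himg, mkAut_mem hb himg, fun x => ?_, fun c hc => ?_⟩
  · show b x = _
    rw [hbα x x.2, autFun_apply]
  · exact hbc c hc

end normal

end Cfsg.Agent.H87
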