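import Mathlib
import Cfsg.Agent.H50.AmDefs

/-!
# AM-NUMF and AM-NUMG (helper87, for helper50's S2262 project): the two numerical inequalities
-/

set_option autoImplicit false

namespace Cfsg.Agent.H87.Am

open Finset

theorem geom_pred (x d : ℕ) (hx : 1 ≤ x) : (x - 1) * ∑ i ∈ range d, x ^ i = x ^ d - 1 := by
  obtain ⟨y, rfl⟩ : ∃ y, x = y + 1 := ⟨x - 1, by omega⟩
  have h := geom_sum_mul_add y d
  rw [Nat.add_sub_cancel, ← h, Nat.add_sub_cancel, mul_comm]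

theorem le_pow_pred (e Q : ℕ) (hQ : 2 ≤ Q) (he : 1 ≤ e) : e ≤ Q ^ (e - 1) := by
  have h1 : e - 1 < 2 ^ (e - 1) := Nat.lt_two_pow_self
  have h2 : 2 ^ (e - 1) ≤ Q ^ (e - 1) := Nat.pow_le_pow_left hQ _
  omega

theorem termA (e Q i : ℕ) (hQ : 2 ≤ Q) (he : 1 ≤ e) (hi : 1 ≤ i) : e * Q ^ i ≤ (Q ^ e) ^ i := by
  have h1 := le_pow_pred e Q hQ he
  have h2 : Q ^ (e - 1) * Q ^ i ≤ (Q ^ e) ^ i := by
    rw [← pow_add, ← pow_mul]
    apply Nat.pow_le_pow_right (by omega)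
    obtain ⟨e', rfl⟩ : ∃ e', e = e' + 1 := ⟨e - 1, by omega⟩
    obtain ⟨i', rfl⟩ : ∃ i', i = i' + 1 := ⟨i - 1, by omega⟩
    simp only [Nat.add_sub_cancel]
    nlinarith
  calc e * Q ^ i ≤ Q ^ (e - 1) * Q ^ i := Nat.mul_le_mul_right _ h1
    _ ≤ (Q ^ e) ^ i := h2

theorem baseB (Q : ℕ) (hQ : 2 ≤ Q) :
    ∀ e, 2 ≤ e → ¬ (e = 2 ∧ Q = 2) → e * (1 + Q) ≤ 1 + Q ^ e := by
  intro e he
  induction e, he using Nat.le_induction with
  | base =>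
    intro hne
    have hQ3 : 3 ≤ Q := by
      by_contra h
      exact hne ⟨rfl, by omega⟩
    nlinarith
  | succ e he ih =>
    intro _
    by_cases h22 : e = 2 ∧ Q = 2
    · obtain ⟨rfl, rfl⟩ := h22
      norm_num
    · have h := ih h22
      have h3 := Nat.mul_le_mul_left Q h
      have hQQ : 4 ≤ Q * Q := Nat.mul_le_mul hQ hQ
      have h4 : e * 4 ≤ e * (Q * Q) := Nat.mul_le_mul_left e hQQ
      have h5 : 2 * (Q * 2) ≤ e * (Q * Q) := Nat.mul_le_mul he (Nat.mul_le_mul_left Q hQ)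
      rw [pow_succ]
      nlinarith

theorem keyF (e Q : ℕ) (he : 2 ≤ e) (hQ : 2 ≤ Q) : ∀ d, 2 ≤ d → ¬ (d = 2 ∧ e = 2 ∧ Q = 2) →
    e * ∑ i ∈ range d, Q ^ i ≤ ∑ i ∈ range d, (Q ^ e) ^ i := by
  intro d hd
  induction d, hd using Nat.le_induction with
  | base =>
    intro hne
    have h0 := baseB Q hQ e he (fun h => hne ⟨rfl, h.1, h.2⟩)
    simpa [Finset.sum_range_succ] using h0
  | succ d hd ih =>
    intro _
    by_cases h2 : d = 2 ∧ e = 2 ∧ Q = 2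
    · obtain ⟨rfl, rfl, rfl⟩ := h2
      norm_num [Finset.sum_range_succ]
    · have h := ih h2
      rw [Finset.sum_range_succ, Finset.sum_range_succ, mul_add]
      exact Nat.add_le_add h (termA e Q d hQ (by omega) (by omega))

/-- piece AM-NUMF -/
theorem numF : Cfsg.Agent.H50.Am.StNumF := by
  intro d e Q hd he hQ hne
  have key := keyF e Q he hQ d hd hne
  have hQe : 1 ≤ Q ^ e := Nat.one_le_pow _ _ (by omega)
  calc (Q ^ e - 1) * (e * (Q ^ d - 1))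
      = (Q ^ e - 1) * (e * ((Q - 1) * ∑ i ∈ range d, Q ^ i)) := by
        rw [geom_pred Q d (by omega)]
    _ = (Q - 1) * ((Q ^ e - 1) * (e * ∑ i ∈ range d, Q ^ i)) := by ring
    _ ≤ (Q - 1) * ((Q ^ e - 1) * ∑ i ∈ range d, (Q ^ e) ^ i) :=
        Nat.mul_le_mul_left _ (Nat.mul_le_mul_left _ key)
    _ = (Q - 1) * ((Q ^ e) ^ d - 1) := by rw [geom_pred (Q ^ e) d hQe]

theorem two_e_le (e : ℕ) (he : 2 ≤ e) : 2 * e ≤ 4 ^ (e - 1) := by
  induction e, he using Nat.le_induction with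
  | base => norm_num
  | succ e he ih =>
    have h1 : e + 1 - 1 = (e - 1) + 1 := by omega
    rw [h1, pow_succ]
    omega

theorem four_e_le (e : ℕ) (he : 3 ≤ e) : 4 * e ≤ 4 ^ (e - 1) := by
  induction e, he using Nat.le_induction with
  | base => norm_num
  | succ e he ih =>
    have h1 : e + 1 - 1 = (e - 1) + 1 := by omega
    rw [h1, pow_succ]
    omega

theorem termA2 (e Q i : ℕ) (hQ : 2 ≤ Q) (he : 2 ≤ e) (hi : 2 ≤ i) :
    2 * e * Q ^ i ≤ (Q ^ e) ^ i := by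
  have h1 : 2 * e ≤ Q ^ ((e - 1) * i) := by
    calc 2 * e ≤ 4 ^ (e - 1) := two_e_le e he
      _ = 2 ^ ((e - 1) * 2) := by rw [pow_mul']; norm_num
      _ ≤ 2 ^ ((e - 1) * i) := Nat.pow_le_pow_right (by norm_num) (Nat.mul_le_mul_left _ hi)
      _ ≤ Q ^ ((e - 1) * i) := Nat.pow_le_pow_left hQ _
  have h2 : Q ^ ((e - 1) * i) * Q ^ i = (Q ^ e) ^ i := by
    rw [← pow_add, ← pow_mul]
    congr 1
    obtain ⟨e', rfl⟩ : ∃ e', e = e' + 1 := ⟨e - 1, by omega⟩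
    simp only [Nat.add_sub_cancel]
    ring
  rw [← h2]
  exact Nat.mul_le_mul_right _ h1

theorem baseG (e Q : ℕ) (he : 2 ≤ e) (hQ : 2 ≤ Q) (h : 3 ≤ e ∨ 4 ≤ Q) :
    2 * e * (1 + Q + Q ^ 2) ≤ 1 + Q ^ e + (Q ^ e) ^ 2 := by
  rcases Nat.lt_or_ge e 3 with he3 | he3
  · have he2 : e = 2 := by omega
    have hQ4 : 4 ≤ Q := by
      rcases h with h | h
      · omega
      · exact h
    subst he2
    have h0 : 16 ≤ Q ^ 2 := by nlinarith
    have h1 : 16 * Q ^ 2 ≤ (Q ^ 2) ^ 2 := by nlinarith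
    nlinarith
  · have h1 := four_e_le e he3
    have h2 : 4 ^ (e - 1) ≤ (Q ^ (e - 1)) ^ 2 := by
      calc 4 ^ (e - 1) = (2 ^ (e - 1)) ^ 2 := by
            rw [← pow_mul, mul_comm, pow_mul]; norm_num
        _ ≤ (Q ^ (e - 1)) ^ 2 := Nat.pow_le_pow_left (Nat.pow_le_pow_left hQ _) 2
    have h3 : (Q ^ e) ^ 2 = (Q ^ (e - 1)) ^ 2 * Q ^ 2 := by
      rw [← mul_pow, ← pow_succ]
      congr 2
      omega
    have h4 : 1 + Q ≤ Q ^ 2 := by nlinarith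
    have h5 : 4 * e * Q ^ 2 ≤ (Q ^ e) ^ 2 := by
      rw [h3]
      exact Nat.mul_le_mul_right _ (h1.trans h2)
    have h6 : 2 * e * (1 + Q) ≤ 2 * e * Q ^ 2 := Nat.mul_le_mul_left _ h4
    calc 2 * e * (1 + Q + Q ^ 2) = 2 * e * (1 + Q) + 2 * e * Q ^ 2 := by ring
      _ ≤ 2 * e * Q ^ 2 + 2 * e * Q ^ 2 := Nat.add_le_add_right h6 _
      _ = 4 * e * Q ^ 2 := by ring
      _ ≤ (Q ^ e) ^ 2 := h5
      _ ≤ 1 + Q ^ e + (Q ^ e) ^ 2 := Nat.le_add_left _ _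

theorem keyG (e Q : ℕ) (he : 2 ≤ e) (hQ : 2 ≤ Q) (h : 3 ≤ e ∨ 4 ≤ Q) : ∀ d, 3 ≤ d →
    2 * e * ∑ i ∈ range d, Q ^ i ≤ ∑ i ∈ range d, (Q ^ e) ^ i := by
  intro d hd
  induction d, hd using Nat.le_induction with
  | base =>
    have h0 := baseG e Q he hQ h
    simpa [Finset.sum_range_succ] using h0
  | succ d hd ih =>
    rw [Finset.sum_range_succ, Finset.sum_range_succ, mul_add]
    exact Nat.add_le_add ih (termA2 e Q d hQ he (by omega))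

/-- piece AM-NUMG -/
theorem numG : Cfsg.Agent.H50.Am.StNumG := by
  intro d e Q hd he hQ h
  have key := keyG e Q he hQ h d hd
  have hQe : 1 ≤ Q ^ e := Nat.one_le_pow _ _ (by omega)
  calc (Q ^ e - 1) * (2 * e * (Q ^ d - 1))
      = (Q ^ e - 1) * (2 * e * ((Q - 1) * ∑ i ∈ range d, Q ^ i)) := by
        rw [geom_pred Q d (by omega)]
    _ = (Q - 1) * ((Q ^ e - 1) * (2 * e * ∑ i ∈ range d, Q ^ i)) := by ring
    _ ≤ (Q - 1) * ((Q ^ e - 1) * ∑ i ∈ range d, (Q ^ e) ^ i) :=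
        Nat.mul_le_mul_left _ (Nat.mul_le_mul_left _ key)
    _ = (Q - 1) * ((Q ^ e) ^ d - 1) := by rw [geom_pred (Q ^ e) d hQe]

example : Cfsg.Agent.H50.Am.StNumF := Cfsg.Agent.H87.Am.numF
example : Cfsg.Agent.H50.Am.StNumG := Cfsg.Agent.H87.Am.numG

end Cfsg.Agent.H87.Am
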