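import Mathlib
import Cfsg.Agent.H81.ExDefs

/-!
# EX-MIN (for helper81, existence of `J(T)`-components, S2948 / S2949)

A commuting family of involutory automorphisms (an elementary abelian 2-group `J`) acting
nontrivially on an abelian group `U` of odd order normalizes a subgroup of prime order on which
it acts nontrivially.  `StMin` is the same statement modulo a normal subgroup `Q`.
-/

set_option autoImplicit false
open Cfsg

namespace Cfsg.Agent.H87.Ex

open Cfsg.Agent.H81.Ex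

universe u

/-- The statement in the quotient. -/
theorem ex_min_core {Y : Type u} [Group Y] [Finite Y] (U J : Subgroup Y)
    (hUc : ∀ x ∈ U, ∀ y ∈ U, x * y = y * x) (hodd : Odd (Nat.card U))
    (hJ2 : ∀ j ∈ J, j * j = 1) (hJc : ∀ j ∈ J, ∀ k ∈ J, j * k = k * j)
    (hJU : ∀ j ∈ J, ∀ u ∈ U, j * u * j⁻¹ ∈ U)
    (hw : ∃ u ∈ U, ∃ j ∈ J, u * j * u⁻¹ * j⁻¹ ≠ 1) :
    ∃ N : Subgroup Y, N ≤ U ∧ (∀ j ∈ J, ∀ n ∈ N, j * n * j⁻¹ ∈ N) ∧ (Nat.card N).Prime ∧
      ∃ x ∈ N, ∃ j ∈ J, x * j * x⁻¹ * j⁻¹ ≠ 1 := by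
  classical
  obtain ⟨u, hu, j₀, hj₀, hne⟩ := hw
  -- conjugation by commuting elements
  have hconj : ∀ j ∈ J, ∀ k ∈ J, ∀ n : Y,
      j * (k * n * k⁻¹) * j⁻¹ = k * (j * n * j⁻¹) * k⁻¹ := by
    intro j hj k hk n
    have hc := hJc j hj k hk
    calc j * (k * n * k⁻¹) * j⁻¹ = (j * k) * n * (j * k)⁻¹ := by group
      _ = (k * j) * n * (k * j)⁻¹ := by rw [hc]
      _ = k * (j * n * j⁻¹) * k⁻¹ := by group
  have hsq : ∀ j ∈ J, ∀ n : Y, j * (j * n * j⁻¹) * j⁻¹ = n := by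
    intro j hj n
    have e : j * (j * n * j⁻¹) * j⁻¹ = (j * j) * n * (j * j)⁻¹ := by
      simp only [mul_assoc, mul_inv_rev]
    rw [e, hJ2 j hj, one_mul, inv_one, mul_one]
  -- the subgroup inverted by `j₀`
  let I : Subgroup Y :=
    { carrier := {n | n ∈ U ∧ j₀ * n * j₀⁻¹ = n⁻¹}
      mul_mem' := by
        rintro a b ⟨ha, ha'⟩ ⟨hb, hb'⟩
        refine ⟨U.mul_mem ha hb, ?_⟩
        have e : j₀ * (a * b) * j₀⁻¹ = (j₀ * a * j₀⁻¹) * (j₀ * b * j₀⁻¹) := by group
        rw [e, ha', hb', mul_inv_rev]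
        exact hUc _ (U.inv_mem ha) _ (U.inv_mem hb)
      one_mem' := ⟨U.one_mem, by simp⟩
      inv_mem' := by
        rintro a ⟨ha, ha'⟩
        refine ⟨U.inv_mem ha, ?_⟩
        have e : j₀ * a⁻¹ * j₀⁻¹ = (j₀ * a * j₀⁻¹)⁻¹ := by group
        rw [e, ha'] }
  have hIU : I ≤ U := fun n hn => hn.1
  have hIinv : ∀ n ∈ I, j₀ * n * j₀⁻¹ = n⁻¹ := fun n hn => hn.2
  -- `I` is nontrivial
  have hyI : u⁻¹ * (j₀ * u * j₀⁻¹) ∈ I := by
    refine ⟨U.mul_mem (U.inv_mem hu) (hJU j₀ hj₀ u hu), ?_⟩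
    have e : j₀ * (u⁻¹ * (j₀ * u * j₀⁻¹)) * j₀⁻¹ =
        (j₀ * u * j₀⁻¹)⁻¹ * (j₀ * (j₀ * u * j₀⁻¹) * j₀⁻¹) := by group
    rw [e, hsq j₀ hj₀]
    group
  have hy1 : u⁻¹ * (j₀ * u * j₀⁻¹) ≠ 1 := by
    intro h
    apply hne
    have h2 : u = j₀ * u * j₀⁻¹ := inv_mul_eq_one.mp h
    have e : u * j₀ * u⁻¹ * j₀⁻¹ = u * (j₀ * u * j₀⁻¹)⁻¹ := by group
    rw [e, ← h2, mul_inv_cancel]
  -- the family of nontrivial `J`-invariant subgroups of `I`
  let P : Subgroup Y → Prop := fun N =>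
    N ≤ I ∧ N ≠ ⊥ ∧ ∀ j ∈ J, ∀ n ∈ N, j * n * j⁻¹ ∈ N
  have hPI : P I := by
    refine ⟨le_refl _, ?_, ?_⟩
    · intro hbot
      apply hy1
      have := hyI
      rw [hbot, Subgroup.mem_bot] at this
      exact this
    · intro k hk n hn
      refine ⟨hJU k hk n hn.1, ?_⟩
      rw [hconj j₀ hj₀ k hk n, hn.2]
      group
  have hex : ∃ m, ∃ N : Subgroup Y, P N ∧ Nat.card N = m := ⟨_, I, hPI, rfl⟩
  obtain ⟨N, hPN, hNm⟩ := Nat.find_spec hex
  have hmin : ∀ N' : Subgroup Y, P N' → Nat.card N ≤ Nat.card N' := by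
    intro N' hN'
    rw [hNm]
    exact Nat.find_min' hex ⟨N', hN', rfl⟩
  have hNU : N ≤ U := hPN.1.trans hIU
  -- every element of `J` centralizes or inverts `N`
  have hdich : ∀ j ∈ J, (∀ n ∈ N, j * n * j⁻¹ = n) ∨ (∀ n ∈ N, j * n * j⁻¹ = n⁻¹) := by
    intro j hj
    by_cases hF : N ⊓ Subgroup.centralizer ({j} : Set Y) = ⊥
    · right
      intro n hn
      have hjn : j * n * j⁻¹ ∈ N := hPN.2.2 j hj n hn
      have hmem : n * (j * n * j⁻¹) ∈ N ⊓ Subgroup.centralizer ({j} : Set Y) := by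
        refine ⟨N.mul_mem hn hjn, ?_⟩
        show n * (j * n * j⁻¹) ∈ Subgroup.centralizer ({j} : Set Y)
        rw [Subgroup.mem_centralizer_iff]
        intro h hh
        rw [Set.mem_singleton_iff] at hh
        subst hh
        have e : h * (n * (h * n * h⁻¹)) * h⁻¹ = (h * n * h⁻¹) * (h * (h * n * h⁻¹) * h⁻¹) := by
          group
        have e2 : h * (n * (h * n * h⁻¹)) * h⁻¹ = n * (h * n * h⁻¹) := by
          rw [e, hsq h hj]
          exact hUc _ (hNU hjn) _ (hNU hn)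
        exact mul_inv_eq_iff_eq_mul.mp e2
      rw [hF, Subgroup.mem_bot] at hmem
      exact eq_inv_of_mul_eq_one_right hmem
    · left
      have hPF : P (N ⊓ Subgroup.centralizer ({j} : Set Y)) := by
        refine ⟨inf_le_left.trans hPN.1, hF, ?_⟩
        intro k hk m hm
        refine ⟨hPN.2.2 k hk m hm.1, ?_⟩
        show k * m * k⁻¹ ∈ Subgroup.centralizer ({j} : Set Y)
        rw [Subgroup.mem_centralizer_iff]
        intro h hh
        rw [Set.mem_singleton_iff] at hh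
        subst hh
        have hm2 : h * m = m * h :=
          Subgroup.mem_centralizer_iff.mp hm.2 h (Set.mem_singleton h)
        have hm3 : h * m * h⁻¹ = m := by rw [hm2, mul_inv_cancel_right]
        have e := hconj h hj k hk m
        rw [hm3] at e
        exact mul_inv_eq_iff_eq_mul.mp e
      have hEq : N ⊓ Subgroup.centralizer ({j} : Set Y) = N :=
        Subgroup.eq_of_le_of_card_ge inf_le_left (hmin _ hPF)
      intro n hn
      have hn' : n ∈ N ⊓ Subgroup.centralizer ({j} : Set Y) := by rw [hEq]; exact hn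
      have h2 : j * n = n * j :=
        Subgroup.mem_centralizer_iff.mp hn'.2 j (Set.mem_singleton j)
      rw [h2, mul_inv_cancel_right]
  -- an element of prime order
  have hcard : Nat.card N ≠ 1 := by
    have := (Subgroup.one_lt_card_iff_ne_bot N).mpr hPN.2.1
    omega
  haveI : Fact (Nat.card N).minFac.Prime := ⟨Nat.minFac_prime hcard⟩
  obtain ⟨g, hg⟩ := exists_prime_orderOf_dvd_card' (G := N) (Nat.card N).minFac
    (Nat.minFac_dvd _)
  have hgo : orderOf (g : Y) = (Nat.card N).minFac := by rw [Subgroup.orderOf_coe]; exact hg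
  have hpp : (Nat.card N).minFac.Prime := Nat.minFac_prime hcard
  have hg1 : (g : Y) ≠ 1 := by
    intro h
    rw [h, orderOf_one] at hgo
    exact hpp.one_lt.ne hgo
  have hgN : (g : Y) ∈ N := g.2
  have hPz : P (Subgroup.zpowers (g : Y)) := by
    refine ⟨(Subgroup.zpowers_le.mpr hgN).trans hPN.1, Subgroup.zpowers_ne_bot.mpr hg1, ?_⟩
    intro j hj m hm
    obtain ⟨i, rfl⟩ := Subgroup.mem_zpowers_iff.mp hm
    rw [← conj_zpow]
    rcases hdich j hj with h | h
    · rw [h _ hgN]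
      exact Subgroup.zpow_mem _ (Subgroup.mem_zpowers _) i
    · rw [h _ hgN]
      exact Subgroup.zpow_mem _ (Subgroup.inv_mem _ (Subgroup.mem_zpowers _)) i
  have hzN : Subgroup.zpowers (g : Y) = N :=
    Subgroup.eq_of_le_of_card_ge (Subgroup.zpowers_le.mpr hgN) (hmin _ hPz)
  have hNcard : Nat.card N = (Nat.card N).minFac := by
    conv_lhs => rw [← hzN]
    rw [Nat.card_zpowers, hgo]
  refine ⟨N, hNU, hPN.2.2, ?_, (g : Y), hgN, j₀, hj₀, ?_⟩
  · rw [hNcard]; exact hpp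
  · intro h
    have hinv : j₀ * (g : Y) * j₀⁻¹ = (g : Y)⁻¹ := hIinv _ (hPN.1 hgN)
    have e : (g : Y) * j₀ * (g : Y)⁻¹ * j₀⁻¹ = (g : Y) * (j₀ * (g : Y) * j₀⁻¹)⁻¹ := by group
    rw [e, hinv, inv_inv] at h
    -- `g * g = 1`, so the order of `g` divides 2
    have h2 : orderOf (g : Y) ∣ 2 := orderOf_dvd_of_pow_eq_one (by rw [pow_two]; exact h)
    have hdU : orderOf (g : Y) ∣ Nat.card U := by
      have := Subgroup.orderOf_dvd_natCard U (hNU hgN)
      exact this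
    rw [hgo] at h2 hdU
    have hp2 : (Nat.card N).minFac = 2 := (Nat.prime_dvd_prime_iff_eq hpp Nat.prime_two).mp h2
    rw [hp2] at hdU
    obtain ⟨t, ht⟩ := hodd
    omega

/-- EX-MIN. -/
theorem min : StMin.{u} := by
  intro X _ _ Q U J hQn hQU hUn hab hodd hJ2 hJc hw
  haveI := hQn
  have hπ : ∀ x : X, QuotientGroup.mk' Q x = 1 ↔ x ∈ Q := fun x => QuotientGroup.eq_one_iff x
  have hsurj : Function.Surjective (QuotientGroup.mk' Q) := QuotientGroup.mk'_surjective Q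
  have hcomm : ∀ x y : X, x * y * x⁻¹ * y⁻¹ ∈ Q →
      QuotientGroup.mk' Q x * QuotientGroup.mk' Q y =
        QuotientGroup.mk' Q y * QuotientGroup.mk' Q x := by
    intro x y h
    have h1 := (hπ _).mpr h
    rw [map_mul, map_mul, map_mul, map_inv, map_inv] at h1
    exact mul_inv_eq_iff_eq_mul.mp (mul_inv_eq_one.mp h1)
  have hrel : ∀ N : Subgroup X, Q.relIndex N = Nat.card (N.map (QuotientGroup.mk' Q)) := by
    intro N
    have h := Subgroup.relIndex_comap (⊥ : Subgroup (X ⧸ Q)) (QuotientGroup.mk' Q) N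
    rw [MonoidHom.comap_bot, QuotientGroup.ker_mk', Subgroup.relIndex_bot_left] at h
    exact h
  obtain ⟨N, hNU, hNJ, hNp, x, hx, j, hj, hxj⟩ :=
    ex_min_core (U.map (QuotientGroup.mk' Q)) (J.map (QuotientGroup.mk' Q))
      (by
        rintro _ ⟨x, hx, rfl⟩ _ ⟨y, hy, rfl⟩
        exact hcomm x y (hab x hx y hy))
      (by rw [← hrel U]; exact hodd)
      (by
        rintro _ ⟨j, hj, rfl⟩
        rw [← map_mul]
        exact (hπ _).mpr (hJ2 j hj))
      (by
        rintro _ ⟨j, hj, rfl⟩ _ ⟨k, hk, rfl⟩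
        exact hcomm j k (hJc j hj k hk))
      (by
        rintro _ ⟨j, hj, rfl⟩ _ ⟨u, hu, rfl⟩
        exact ⟨j * u * j⁻¹, hUn.conj_mem u hu j, by simp⟩)
      (by
        obtain ⟨u, hu, j, hj, hne⟩ := hw
        refine ⟨_, ⟨u, hu, rfl⟩, _, ⟨j, hj, rfl⟩, ?_⟩
        intro h
        apply hne
        apply (hπ _).mp
        rw [map_mul, map_mul, map_mul, map_inv, map_inv]
        exact h)
  refine ⟨N.comap (QuotientGroup.mk' Q), ?_, ?_, ?_, ?_, ?_⟩
  · intro q hq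
    rw [Subgroup.mem_comap, (hπ q).mpr hq]
    exact N.one_mem
  · intro n hn
    obtain ⟨u, hu, hun⟩ := hNU (Subgroup.mem_comap.mp hn)
    have h1 : u⁻¹ * n ∈ Q := by
      apply (hπ _).mp
      rw [map_mul, map_inv, hun, inv_mul_cancel]
    have e : n = u * (u⁻¹ * n) := by group
    rw [e]
    exact U.mul_mem hu (hQU h1)
  · intro j hj
    rw [Subgroup.mem_normalizer_iff]
    intro n
    constructor
    · intro hn
      rw [Subgroup.mem_comap, map_mul, map_mul, map_inv]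
      exact hNJ _ ⟨j, hj, rfl⟩ _ (Subgroup.mem_comap.mp hn)
    · intro hn
      have h1 := hNJ _ ⟨j⁻¹, J.inv_mem hj, rfl⟩ _ (Subgroup.mem_comap.mp hn)
      rw [Subgroup.mem_comap]
      have e : QuotientGroup.mk' Q j⁻¹ * QuotientGroup.mk' Q (j * n * j⁻¹) *
          (QuotientGroup.mk' Q j⁻¹)⁻¹ = QuotientGroup.mk' Q n := by
        rw [← map_inv, ← map_mul, ← map_mul]
        congr 1
        group
      rw [e] at h1
      exact h1
  · rw [hrel, Subgroup.map_comap_eq_self_of_surjective hsurj]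
    exact hNp
  · obtain ⟨x', rfl⟩ := hsurj x
    obtain ⟨j', hj', rfl⟩ := hj
    refine ⟨x', Subgroup.mem_comap.mpr hx, j', hj', ?_⟩
    intro h
    apply hxj
    have h1 := (hπ _).mpr h
    rw [map_mul, map_mul, map_mul, map_inv, map_inv] at h1
    exact h1

example : Cfsg.Agent.H81.Ex.StMin.{u} := min

end Cfsg.Agent.H87.Ex
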