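import Mathlib
import Cfsg.Agent.H81.ExDefs

/-!
# EX-NT (for helper81, existence of `J(T)`-components, S2948 / S2949)

A 2-subgroup `J ≤ M ⊴ X` not contained in `C ⊴ X`, where `O₂(X / C) = 1`, does not centralize
modulo `C` all elements of odd order of `M`.

Proof.  Otherwise let `Z` be the set of the elements of the image of `M` in `X / C` commuting with
the images of all elements of odd order of `M`: a normal subgroup of `X / C` containing the image
of `J`.  A suitable 2-power of an element of `Z` is the image of an element of odd order of `M`,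
hence central in `Z`: so `Z` is nilpotent, its Sylow 2-subgroup is characteristic in `Z`, hence
normal in `X / C`, hence trivial.
-/

set_option autoImplicit false
open Cfsg

namespace Cfsg.Agent.H87.Ex

open Cfsg.Agent.H81.Ex

universe u

/-- EX-NT. -/
theorem nt : StNT.{u} := by
  intro X _ _ C M J _ hMn hO hJ2 hJM hJC
  classical
  by_contra hcon
  push_neg at hcon
  apply hJC
  have hπ : ∀ x : X, QuotientGroup.mk' C x = 1 ↔ x ∈ C := fun x => QuotientGroup.eq_one_iff x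
  have hsurj : Function.Surjective (QuotientGroup.mk' C) := QuotientGroup.mk'_surjective C
  obtain ⟨π, hπdef⟩ : ∃ π : X →* X ⧸ C, π = QuotientGroup.mk' C := ⟨_, rfl⟩
  rw [← hπdef] at hπ hsurj
  obtain ⟨S, hSdef⟩ : ∃ S : Set (X ⧸ C), S = π '' {u | u ∈ M ∧ Odd (orderOf u)} := ⟨_, rfl⟩
  have hSmem : ∀ u ∈ M, Odd (orderOf u) → π u ∈ S := by
    intro u hu ho
    rw [hSdef]
    exact ⟨u, ⟨hu, ho⟩, rfl⟩
  have hSel : ∀ s ∈ S, ∃ u ∈ M, Odd (orderOf u) ∧ π u = s := by
    intro s hs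
    rw [hSdef] at hs
    obtain ⟨u, ⟨hu, ho⟩, rfl⟩ := hs
    exact ⟨u, hu, ho, rfl⟩
  have hMbar : (M.map π).Normal := hMn.map π hsurj
  obtain ⟨Z, hZdef⟩ : ∃ Z : Subgroup (X ⧸ C), Z = M.map π ⊓ Subgroup.centralizer S := ⟨_, rfl⟩
  have hZmem : ∀ z : X ⧸ C, z ∈ Z ↔ z ∈ M.map π ∧ ∀ s ∈ S, s * z = z * s := by
    intro z
    rw [hZdef, Subgroup.mem_inf, Subgroup.mem_centralizer_iff]
  have hZn : Z.Normal := by
    constructor
    intro z hz y
    rw [hZmem] at hz ⊢
    refine ⟨hMbar.conj_mem z hz.1 y, ?_⟩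
    intro s hs
    obtain ⟨u, huM, huo, rfl⟩ := hSel s hs
    obtain ⟨x, rfl⟩ := hsurj y
    have hmem : π (x⁻¹ * u * x) ∈ S := by
      apply hSmem
      · have := hMn.conj_mem u huM x⁻¹
        simpa using this
      · have h := MulEquiv.orderOf_eq (MulAut.conj x⁻¹) u
        rw [MulAut.conj_apply, inv_inv] at h
        rw [h]
        exact huo
    have hc := hz.2 _ hmem
    rw [map_mul, map_mul, map_inv] at hc
    calc π u * (π x * z * (π x)⁻¹) = π x * ((π x)⁻¹ * π u * π x * z) * (π x)⁻¹ := by group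
      _ = π x * (z * ((π x)⁻¹ * π u * π x)) * (π x)⁻¹ := by rw [hc]
      _ = π x * z * (π x)⁻¹ * π u := by group
  have hJZ : ∀ j ∈ J, π j ∈ Z := by
    intro j hj
    rw [hZmem]
    refine ⟨⟨j, hJM hj, rfl⟩, ?_⟩
    intro s hs
    obtain ⟨u, huM, huo, rfl⟩ := hSel s hs
    have h1 := (hπ _).mpr (hcon u huM huo j hj)
    rw [map_mul, map_mul, map_mul, map_inv, map_inv] at h1
    exact mul_inv_eq_iff_eq_mul.mp (mul_inv_eq_one.mp h1)
  haveI : Fact (Nat.Prime 2) := ⟨Nat.prime_two⟩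
  -- `Z` is nilpotent
  have hpq : IsPGroup 2 (↥Z ⧸ Subgroup.center ↥Z) := by
    intro g
    obtain ⟨z, rfl⟩ := QuotientGroup.mk_surjective g
    obtain ⟨m, hmM, hmz⟩ := ((hZmem _).mp z.2).1
    obtain ⟨k, b, hb, hkb⟩ := Nat.exists_eq_two_pow_mul_odd (orderOf_pos m).ne'
    refine ⟨k, ?_⟩
    rw [← QuotientGroup.mk_pow, QuotientGroup.eq_one_iff, Subgroup.mem_center_iff]
    intro w
    have hodd : Odd (orderOf (m ^ 2 ^ k)) := by
      have hd : orderOf (m ^ 2 ^ k) ∣ b := by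
        apply orderOf_dvd_of_pow_eq_one
        rw [← pow_mul, ← hkb, pow_orderOf_eq_one]
      exact hb.of_dvd_nat hd
    have hmem : π (m ^ 2 ^ k) ∈ S := hSmem _ (M.pow_mem hmM _) hodd
    have hc := ((hZmem _).mp w.2).2 _ hmem
    apply Subtype.ext
    rw [Subgroup.coe_mul, Subgroup.coe_mul, Subgroup.coe_pow, ← hmz, ← map_pow]
    exact hc.symm
  have hnil : Group.IsNilpotent ↥Z := Group.of_quotient_center_nilpotent hpq.isNilpotent
  -- a Sylow 2-subgroup of `Z` containing the image of `J`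
  have hJ2' : IsPGroup 2 ↥((J.map π).subgroupOf Z) := (hJ2.map π).comap_subtype
  obtain ⟨Q, hQ⟩ := hJ2'.exists_le_sylow
  have hQn : (Q : Subgroup ↥Z).Normal := inferInstance
  haveI := Sylow.characteristic_of_normal Q hQn
  haveI := hZn
  have hQY : ((Q : Subgroup ↥Z).map Z.subtype).Normal :=
    ConjAct.normal_of_characteristic_of_normal
  have hQ2 : IsPGroup 2 ↥((Q : Subgroup ↥Z).map Z.subtype) := Q.isPGroup'.map Z.subtype
  have hle : (Q : Subgroup ↥Z).map Z.subtype ≤ pCore 2 (X ⧸ C) := le_sSup ⟨hQY, hQ2⟩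
  rw [hO] at hle
  intro j hj
  have h1 : (⟨π j, hJZ j hj⟩ : ↥Z) ∈ (Q : Subgroup ↥Z) := hQ (by
    rw [Subgroup.mem_subgroupOf]
    exact ⟨j, hj, rfl⟩)
  have h2 : π j ∈ (Q : Subgroup ↥Z).map Z.subtype := ⟨_, h1, rfl⟩
  have h3 := hle h2
  rw [Subgroup.mem_bot] at h3
  exact (hπ j).mp h3

example : Cfsg.Agent.H81.Ex.StNT.{u} := nt

end Cfsg.Agent.H87.Ex
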