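import Mathlib
import Cfsg.Agent.H45.S43Defs

/-!
# S43-COUNTA (helper87, for helper45's S2343): if all characters non-trivial on `Z` occur and
also one trivial on `Z`, then `q² - q + 1 ≤ k`.
-/

set_option autoImplicit false

namespace Cfsg.Agent.H87.S43

open Matrix Cfsg.Agent.H45 Cfsg.Agent.H45.S43

universe u v

theorem countA : StCountA.{u, v} := by
  intro G _ F _ _ D ψ hψ k R hall hex
  obtain ⟨l₀, hl₀, hl₀ne⟩ := hex
  classical
  have hq : (Fintype.card F : ℂ) ≠ 0 := Nat.cast_ne_zero.mpr Fintype.card_ne_zero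
  have hle := card_lsIdem_ne_zero_le ψ R D.uA hψ hq D.uA_add
  have hinj : Function.Injective (fun o : Option {l : Fin 2 → F // ¬ (l 1 = 0)} =>
      (Option.elim o ⟨l₀, hl₀ne⟩ (fun l => ⟨l.1, hall l.1 l.2⟩) :
        {l : Fin 2 → F // lsIdem ψ R D.uA l ≠ 0})) := by
    rintro (_ | l) (_ | l') h
    · rfl
    · exfalso
      have h'' := congrArg Subtype.val h
      have h' : l₀ = l'.1 := h''
      exact l'.2 (h' ▸ hl₀)
    · exfalso
      have h'' := congrArg Subtype.val h
      have h' : l.1 = l₀ := h''
      exact l.2 (h' ▸ hl₀)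
    · have h'' := congrArg Subtype.val h
      have h' : l.1 = l'.1 := h''
      exact congrArg some (Subtype.ext h')
  have h1 := Nat.card_le_card_of_injective _ hinj
  have h0 : Fintype.card {l : Fin 2 → F // l 1 = 0} = Fintype.card F := by
    apply Fintype.card_congr
    refine ⟨fun l => l.1 0, fun b => ⟨![b, 0], by simp⟩, ?_, ?_⟩
    · intro l
      apply Subtype.ext
      funext i
      fin_cases i
      · simp
      · simp [l.2]
    · intro b
      simp
  have h2 : Nat.card (Option {l : Fin 2 → F // ¬ (l 1 = 0)}) =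
      Fintype.card F ^ 2 - Fintype.card F + 1 := by
    rw [Nat.card_eq_fintype_card, Fintype.card_option, Fintype.card_subtype_compl, h0,
      Fintype.card_fun, Fintype.card_fin]
  omega

example : Cfsg.Agent.H45.S43.StCountA.{u, v} := countA

end Cfsg.Agent.H87.S43

#print axioms Cfsg.Agent.H87.S43.countA
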