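import Cfsg.Agent.H87.ZcLt
import Cfsg.Agent.H64.JzDefs

/-!
# JZ-LT (piece of helper64's project JZ for S2951): the case `T < S`

`stLt_of46 : St46 → Cfsg.Agent.H64.Jz.StLt`, where `St46` is the statement S2946 verbatim (a
hypothesis, because the module of S2946 cannot be imported next to the one of S2950; feed it
any clash-free copy of S2946).
-/

set_option autoImplicit false
open Cfsg

namespace Cfsg.Agent.H87.Zc

universe u

/-- The statement S2946 (verbatim), at universe `u`. -/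
def St46 : Prop := ∀ {G : Type u} [Group G] [Finite G], Cfsg.IsCharacteristicTwoType G →
    (∀ N : Subgroup G, Cfsg.IsTwoLocal N → Group.IsSolvable ↥N) →
    (∀ S : Sylow 2 G, Subgroup.centralizer (Cfsg.omegaCenterOf (S : Subgroup G) : Set G) ≤
      Subgroup.normalizer ((S : Subgroup G) : Set G)) →
    ∀ (T : Subgroup G), IsPGroup 2 ↥T → T ≠ ⊥ → ∀ (K : Subgroup G), Cfsg.IsJComponent T K →
    ∀ (Z₀ : Subgroup G), Z₀ = Cfsg.omegaCenterOf (Cfsg.thompsonSubgroupOf 2 T) →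
    Nat.card ↥(Z₀ ⊓ Cfsg.wOf K) = 2 ∧
      (Z₀ ⊓ ((K ⊔ Cfsg.thompsonSubgroupOf 2 T) ⊓
        Subgroup.centralizer ((K ⊔ Cfsg.thompsonSubgroupOf 2 T) : Set G))) ⊔
          (Z₀ ⊓ Cfsg.wOf K) = Z₀

/-- JZ-LT from S2946. -/
theorem stLt_of46 (h46 : St46.{u}) : Cfsg.Agent.H64.Jz.StLt.{u} := by
  intro G _ _ S M T K L hB hne
  obtain ⟨⟨hL, hN, hZ⟩, hO, hM, hMJ, hT, hTS, hK, hLmax, hKL⟩ := hB
  exact (s2951_lt_of46 hL hN hZ hO S M hM hMJ T hT hTS K hK L hLmax hKL _ _ rfl rfl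
    (h46 hL hN hZ T hT.1.1 hT.1.2.1 K hK.1.1 _ rfl) hne).2

end Cfsg.Agent.H87.Zc
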