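import Cfsg.Agent.H64.JzAsm2
import Cfsg.Agent.H58.Q46.Final
import Cfsg.Agent.H87.ZcLtJz
import Cfsg.Agent.H62.JzSC
import Cfsg.Agent.H3.JzOut1
import Cfsg.Agent.H25.JzOut2
import Cfsg.Agent.H37.JzSetup
import Cfsg.Agent.H46.JzNSE
import Cfsg.Agent.H91.JzMaxS
import Cfsg.Agent.H8.JzResAof
import Cfsg.Agent.H32.JzResN
import Cfsg.Agent.H4.JzZ2of
import Cfsg.Agent.H28.JkMain
import Cfsg.Agent.H52.SrMain
import Cfsg.Agent.H4.JkA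
import Cfsg.Agent.H65.JkFix
import Cfsg.Agent.H80.JkZ
import Cfsg.Agent.H5.JkTr
import Cfsg.Agent.H3.JkTI28
import Cfsg.Agent.H4.JkF1
import Cfsg.Agent.H61.JzNorm
import Cfsg.Agent.H20.JtNormal

/-!
# S2951 and S2952 assembled (team project JZ of helper64)

One complete wiring of the landed pieces of the projects JZ (helper64), JK (helper28) and SR
(helper52): `stMain : H64.Jz.StMain`, `s2951_all` (the statement S2951 verbatim) and `s2952_all`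
(the statement S2952 verbatim, through helper20's `H20.Jt.s2952_of`).  S2946 enters through
helper58's clash-free copy `H58.Q46.s2946`.
-/

set_option autoImplicit false
open Cfsg

namespace Cfsg.Agent.H87.Zc

universe u

/-- `StMain` of the project JZ: the clauses of S2951. -/
theorem stMain : Cfsg.Agent.H64.Jz.StMain.{u} := by
  have hZ2 : Cfsg.Agent.H64.Jz.StZ2.{u} := Cfsg.Agent.H4.Jz.z2_of
    (fun hL hN hZ T hT hT1 K hK Z₀ hZ₀ => Cfsg.Agent.H58.Q46.s2946 hL hN hZ T hT hT1 K hK Z₀ hZ₀)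
  have hLt : Cfsg.Agent.H64.Jz.StLt.{u} := stLt_of46
    (fun hL hN hZ T hT hT1 K hK Z₀ hZ₀ => Cfsg.Agent.H58.Q46.s2946 hL hN hZ T hT hT1 K hK Z₀ hZ₀)
  have hNorm : Cfsg.Agent.H64.Jz.StNorm.{u} := Cfsg.Agent.H61.Jz.norm_of
    (fun hL hN hZ T hT hT1 K hK Z₀ hZ₀ => Cfsg.Agent.H58.Q46.s2946 hL hN hZ T hT hT1 K hK Z₀ hZ₀)
  have hKA : Cfsg.Agent.H28.Jk.StKA.{u} := Cfsg.Agent.H4.Jk.ka
  intro G _ _ S M T K L hB
  refine Cfsg.Agent.H64.Jz.main hLt Cfsg.Agent.H62.Jz.sc Cfsg.Agent.H3.Jz.out1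
    Cfsg.Agent.H25.Jz.out2
    (Cfsg.Agent.H37.Jz.setup Cfsg.Agent.H46.Jz.nse Cfsg.Agent.H91.Jz.maxS)
    (Cfsg.Agent.H8.JzA.resA_of
      (fun hL hN hZ T hT hT1 K hK Z₀ hZ₀ =>
        Cfsg.Agent.H58.Q46.s2946 hL hN hZ T hT hT1 K hK Z₀ hZ₀))
    (Cfsg.Agent.H32.Jz.resN_of
      (fun hL hN hZ T hT hT1 K hK Z₀ hZ₀ =>
        Cfsg.Agent.H58.Q46.s2946 hL hN hZ T hT hT1 K hK Z₀ hZ₀) hZ2)
    (Cfsg.Agent.H28.Jk.kill Cfsg.Agent.H52.Sr.struct hKA Cfsg.Agent.H65.Jk.kfix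
      (Cfsg.Agent.H80.Jk.kz hKA) Cfsg.Agent.H5.Jk.ktr Cfsg.Agent.H3.Jk28.kti
      Cfsg.Agent.H4.Jk.kf1 hZ2 hLt hNorm) S M T K L hB

/-- The statement S2951, verbatim. -/
theorem s2951_all {G : Type u} [Group G] [Finite G] (hL : Cfsg.IsCharacteristicTwoType G)
    (hN : ∀ N : Subgroup G, Cfsg.IsTwoLocal N → Group.IsSolvable ↥N)
    (hZ : ∀ S : Sylow 2 G, Subgroup.centralizer (Cfsg.omegaCenterOf (S : Subgroup G) : Set G) ≤
      Subgroup.normalizer ((S : Subgroup G) : Set G)) (hO : Cfsg.pCore 2 G = ⊥)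
    (S : Sylow 2 G) (M : Subgroup G) (hM : Cfsg.IsTwoLocal M)
    (hMJ : Subgroup.normalizer (Cfsg.thompsonSubgroupOf 2 (S : Subgroup G) : Set G) ≤ M)
    (T : Subgroup G) (hT : T ∈ Cfsg.maxStraddlingTwoSubgroups M)
    (hTS : T ≤ (S : Subgroup G)) (K : Subgroup G) (hK : K ∈ Cfsg.jComponentsOutside M T)
    (L : Subgroup G) (hLmax : Cfsg.IsMaximalTwoLocal L)
    (hKL : K ⊔ Cfsg.thompsonSubgroupOf 2 T ≤ L)
    (Z Z₀ : Subgroup G) (hZdef : Z = Cfsg.omegaCenterOf (S : Subgroup G))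
    (hZ₀ : Z₀ = Cfsg.omegaCenterOf (Cfsg.thompsonSubgroupOf 2 T)) :
    Z₀ ⊓ Cfsg.wOf K ≠ ⊥ ∧
      ((Z = Z₀ ∧ Nat.card ↥Z₀ = 2) ∨ (Z = Z₀ ∧ Nat.card ↥Z₀ = 4 ∧ T = (S : Subgroup G)) ∨
        (Cfsg.omegaCenterOf T = Z₀ ∧ Nat.card ↥Z₀ = 4 ∧
          (L ⊓ Subgroup.centralizer (Z₀ : Set G)).relIndex
            (Subgroup.normalizer (Z₀ : Set G)) = 2)) :=
  Cfsg.Agent.H64.Jz.result_from stMain
    (fun T hT hT1 K hK => (Cfsg.Agent.H58.Q46.s2946 hL hN hZ T hT hT1 K hK _ rfl).1)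
    hL hN hZ hO S M hM hMJ T hT hTS K hK L hLmax hKL Z Z₀ hZdef hZ₀

/-- The statement S2952, verbatim. -/
theorem s2952_all {G : Type u} [Group G] [Finite G] (hL : Cfsg.IsCharacteristicTwoType G)
    (hN : ∀ N : Subgroup G, Cfsg.IsTwoLocal N → Group.IsSolvable ↥N)
    (hZ : ∀ S : Sylow 2 G, Subgroup.centralizer (Cfsg.omegaCenterOf (S : Subgroup G) : Set G) ≤
      Subgroup.normalizer ((S : Subgroup G) : Set G)) (hO : Cfsg.pCore 2 G = ⊥)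
    (S : Sylow 2 G) (M : Subgroup G) (hM : Cfsg.IsTwoLocal M)
    (hMJ : Subgroup.normalizer (Cfsg.thompsonSubgroupOf 2 (S : Subgroup G) : Set G) ≤ M)
    (T : Subgroup G) (hT : T ∈ Cfsg.maxStraddlingTwoSubgroups M)
    (K : Subgroup G) (hK : K ∈ Cfsg.jComponentsOutside M T) :
    (K.subgroupOf (K ⊔ T)).Normal :=
  Cfsg.Agent.H20.Jt.s2952_of
    (fun hL hN hZ hO S M hM hMJ T hT hTS K hK L hLmax hKL Z Z₀ hZdef hZ₀ =>
      s2951_all hL hN hZ hO S M hM hMJ T hT hTS K hK L hLmax hKL Z Z₀ hZdef hZ₀)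
    hL hN hZ hO S M hM hMJ T hT K hK

end Cfsg.Agent.H87.Zc
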